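import Mathlib

set_option autoImplicit false
universe u

/-! Counting pairs (binary quadratic form, binary form of degree `n`) with nonzero resultant. -/

namespace Groth.Agent.ResHypCount

open Polynomial

variable {F : Type u} [Field F]

/-- the polynomial of a coefficient vector -/
noncomputable def pv {k : ℕ} (v : Fin k → F) : F[X] := ∑ i : Fin k, C (v i) * X ^ (i : ℕ)

theorem coeff_pv {k : ℕ} (v : Fin k → F) (i : ℕ) :
    (pv v).coeff i = if h : i < k then v ⟨i, h⟩ else 0 := by
  simp only [pv, finsetSum_coeff, coeff_C_mul_X_pow]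
  split_ifs with h
  · rw [Finset.sum_eq_single ⟨i, h⟩]
    · simp
    · intro b _ hb
      rw [if_neg]
      exact fun e => hb (Fin.ext e.symm)
    · simp
  · exact Finset.sum_eq_zero fun b _ => by rw [if_neg]; exact fun e => h (e ▸ b.2)

theorem natDegree_pv {k : ℕ} (v : Fin (k + 1) → F) : (pv v).natDegree ≤ k := by
  refine natDegree_le_iff_coeff_eq_zero.mpr fun i hi => ?_
  rw [coeff_pv, dif_neg (by omega)]

theorem pv_three (a : Fin 3 → F) : pv a = C (a 0) + C (a 1) * X + C (a 2) * X ^ 2 := by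
  simp [pv, Fin.sum_univ_three]

theorem pv_two (a : Fin 2 → F) : pv a = C (a 0) + C (a 1) * X := by
  simp [pv, Fin.sum_univ_two]

theorem eq_pv {k : ℕ} (P : F[X]) (h : P.natDegree ≤ k) :
    P = pv (fun i : Fin (k + 1) => P.coeff i) := by
  ext i
  rw [coeff_pv]
  split_ifs with hi
  · rfl
  · exact coeff_eq_zero_of_natDegree_lt (by omega)

/-- resultant of a quadratic with a linear form -/
theorem res_lin (f : F[X]) (hf : f.natDegree ≤ 2) (b c : F) :
    resultant f (C c + C b * X) 2 1 =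
      f.coeff 0 * b ^ 2 - f.coeff 1 * b * c + f.coeff 2 * c ^ 2 := by
  by_cases hb : b = 0
  · subst hb; rw [map_zero, zero_mul, add_zero, resultant_C_right]; ring
  · have e : C c + C b * X = C b * (X + C (c / b)) := by
      rw [mul_add, ← C_mul, mul_div_cancel₀ c hb]; ring
    rw [e, resultant_C_mul_right, resultant_X_add_C_right f 2 _ hf]
    have ef : f = C (f.coeff 0) + C (f.coeff 1) * X + C (f.coeff 2) * X ^ 2 := by
      conv_lhs => rw [eq_pv f hf, pv_three]
      simp
    conv_lhs => rw [ef]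
    simp only [eval_add, eval_mul, eval_C, eval_X, eval_pow]
    field_simp
    ring

/-- number of solutions -/
noncomputable def cnt {α : Type*} (P : α → Prop) : ℕ := Nat.card {x // P x}

theorem cnt_congr {α : Type*} {P Q : α → Prop} (h : ∀ x, P x ↔ Q x) : cnt P = cnt Q :=
  Nat.card_congr (Equiv.subtypeEquivRight h)

theorem cnt_equiv {α β : Type*} (e : α ≃ β) (P : β → Prop) : cnt (fun x => P (e x)) = cnt P :=
  Nat.card_congr (e.subtypeEquiv fun _ => Iff.rfl)

theorem cnt_false {α : Type*} : cnt (fun _ : α => False) = 0 := by simp [cnt]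

theorem cnt_true {α : Type*} [Fintype α] : cnt (fun _ : α => True) = Fintype.card α := by
  simp [cnt, Nat.card_eq_fintype_card]

theorem cnt_prod {α β : Type*} [Fintype α] [Finite β] (P : α × β → Prop) :
    cnt P = ∑ a, cnt fun b => P (a, b) := by
  classical
  unfold cnt
  rw [← Nat.card_sigma]
  exact Nat.card_congr
    ⟨fun x => ⟨x.1.1, x.1.2, x.2⟩, fun x => ⟨(x.1, x.2.1), x.2.2⟩, fun _ => rfl, fun _ => rfl⟩

theorem cnt_ne {α : Type*} [Fintype α] (c : α) : cnt (fun x => x ≠ c) = Fintype.card α - 1 := by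
  classical
  simp [cnt, Nat.card_eq_fintype_card, Fintype.card_subtype_compl]

theorem sum_ite_zero {α : Type*} [Fintype α] [Zero α] [DecidableEq α] (A B : ℕ) :
    ∑ x : α, (if x = 0 then A else B) = A + (Fintype.card α - 1) * B := by
  rw [← Finset.add_sum_erase _ _ (Finset.mem_univ (0 : α)), if_pos rfl,
    Finset.sum_congr rfl (fun x hx => if_neg (Finset.ne_of_mem_erase hx))]
  simp

variable [Fintype F] [DecidableEq F]

/-- number of coefficient vectors with nonzero leading coefficient -/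
theorem cnt_last_ne (k : ℕ) :
    cnt (fun g : Fin (k + 1) → F => g (Fin.last k) ≠ 0) =
      (Fintype.card F - 1) * Fintype.card F ^ k := by
  classical
  rw [← cnt_equiv (Fin.snocEquiv (fun _ : Fin (k + 1) => F)), cnt_prod]
  simp only [Fin.snocEquiv_apply, Fin.snoc_last]
  have h : ∀ a : F, cnt (fun _ : Fin k → F => a ≠ 0) = if a = 0 then 0 else Fintype.card F ^ k := by
    intro a
    split_ifs with ha
    · rw [cnt_congr (Q := fun _ => False) (fun x => by simp [ha]), cnt_false]
    · rw [cnt_congr (Q := fun _ => True) (fun x => by simp [ha]), cnt_true]; simp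
  simp only [h, sum_ite_zero, zero_add]

/-- case `a₂ ≠ 0` -/
theorem cnt_quad (m : ℕ) (a : Fin 3 → F) (ha : a 2 ≠ 0) :
    cnt (fun g : Fin (m + 3) → F => resultant (pv a) (pv g) 2 (m + 2) ≠ 0) =
      cnt (fun z : F × F => a 0 * z.1 ^ 2 - a 1 * z.1 * z.2 + a 2 * z.2 ^ 2 ≠ 0) *
        Fintype.card F ^ (m + 1) := by
  classical
  have hf := natDegree_pv a
  have hc2 : (pv a).coeff 2 = a 2 := by simp [coeff_pv]
  have hf2 : (pv a).natDegree = 2 :=
    le_antisymm hf (le_natDegree_of_ne_zero (by rw [hc2]; exact ha))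
  let R : (F × F) × (Fin (m + 1) → F) → F[X] := fun z => C z.1.2 + C z.1.1 * X + pv a * pv z.2
  have hdeg : ∀ z, (R z).natDegree ≤ m + 2 := fun z => by
    refine natDegree_add_le_of_degree_le (natDegree_add_le_of_degree_le ?_ ?_) ?_
    · simp
    · exact (natDegree_C_mul_le _ _).trans (natDegree_X_le.trans (by omega))
    · exact natDegree_mul_le.trans (by have := natDegree_pv z.2; omega)
  let e : (F × F) × (Fin (m + 1) → F) → (Fin (m + 3) → F) := fun z i => (R z).coeff i
  have hpv : ∀ z, pv (e z) = R z := fun z => (eq_pv (R z) (hdeg z)).symm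
  have einj : Function.Injective e := by
    intro z w h
    have h1 : R z = R w := by rw [← hpv, ← hpv, h]
    have hne : pv a ≠ 0 := fun h0 => ha (by rw [← hc2, h0, coeff_zero])
    have h2 : pv a * (pv z.2 - pv w.2) = C (w.1.2 - z.1.2) + C (w.1.1 - z.1.1) * X := by
      rw [map_sub, map_sub]
      linear_combination h1
    have h3 : pv z.2 - pv w.2 = 0 := by
      by_contra h0
      have h4 := congrArg natDegree h2
      rw [natDegree_mul hne h0, hf2] at h4
      have h5 : (C (w.1.2 - z.1.2) + C (w.1.1 - z.1.1) * X).natDegree ≤ 1 :=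
        natDegree_add_le_of_degree_le (by simp) ((natDegree_C_mul_le _ _).trans natDegree_X_le)
      omega
    rw [h3, mul_zero] at h2
    have e0 := congrArg (fun P => coeff P 0) h2
    have e1 := congrArg (fun P => coeff P 1) h2
    simp only [coeff_zero, coeff_add, coeff_C_zero, coeff_C_succ, coeff_C_mul, coeff_X_zero,
      coeff_X_one, mul_zero, mul_one, add_zero, zero_add] at e0 e1
    refine Prod.ext (Prod.ext (sub_eq_zero.mp e1.symm).symm (sub_eq_zero.mp e0.symm).symm) ?_
    funext i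
    have := congrArg (fun P => coeff P i) (sub_eq_zero.mp h3)
    simpa [coeff_pv, i.2] using this
  have ebij : Function.Bijective e := by
    refine (Fintype.bijective_iff_injective_and_card e).mpr ⟨einj, ?_⟩
    simp [pow_succ]; ring
  rw [← cnt_equiv (Equiv.ofBijective e ebij), cnt_prod]
  have hiff : ∀ (z : F × F) (q : Fin (m + 1) → F),
      resultant (pv a) (pv (e (z, q))) 2 (m + 2) ≠ 0 ↔
        a 0 * z.1 ^ 2 - a 1 * z.1 * z.2 + a 2 * z.2 ^ 2 ≠ 0 := by
    intro z q
    have h1 : (C z.2 + C z.1 * X).natDegree ≤ 1 :=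
      natDegree_add_le_of_degree_le (by simp) ((natDegree_C_mul_le _ _).trans natDegree_X_le)
    have h2 : resultant (pv a) (pv (e (z, q))) 2 (m + 2) =
        a 2 ^ (m + 1) * (a 0 * z.1 ^ 2 - a 1 * z.1 * z.2 + a 2 * z.2 ^ 2) := by
      rw [hpv, resultant_add_mul_right _ _ _ _ _ (by have := natDegree_pv (z, q).2; omega) hf,
        show m + 2 = 1 + (m + 1) by omega, resultant_add_right_deg _ _ _ _ _ h1, res_lin _ hf]
      simp [coeff_pv]
    rw [h2]; simp [ha]
  change ∑ z : F × F, cnt (fun g : Fin (m + 1) → F => resultant (pv a) (pv (e (z, g))) 2 (m + 2) ≠ 0) = _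
  simp only [hiff]
  have h : ∀ z : F × F, cnt (fun _ : Fin (m + 1) → F => a 0 * z.1 ^ 2 - a 1 * z.1 * z.2 + a 2 * z.2 ^ 2 ≠ 0) =
      (if a 0 * z.1 ^ 2 - a 1 * z.1 * z.2 + a 2 * z.2 ^ 2 ≠ 0 then 1 else 0) * Fintype.card F ^ (m + 1) := by
    intro z
    split_ifs with hz
    · rw [cnt_congr (Q := fun _ => True) (fun x => iff_true_intro hz), cnt_true]; simp
    · rw [cnt_congr (Q := fun _ => False) (fun x => iff_of_false hz id), cnt_false]; simp
  simp only [h, ← Finset.sum_mul]
  congr 1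
  rw [Finset.sum_boole, cnt, Nat.card_eq_fintype_card, Fintype.card_subtype]
  simp

/-- case `a₂ = 0`, `a₁ ≠ 0` -/
theorem cnt_linear (m : ℕ) (a : Fin 3 → F) (h2 : a 2 = 0) (h1 : a 1 ≠ 0) :
    cnt (fun g : Fin (m + 3) → F => resultant (pv a) (pv g) 2 (m + 2) ≠ 0) =
      (Fintype.card F - 1) * ((Fintype.card F - 1) * Fintype.card F ^ (m + 1)) := by
  classical
  set r := -(a 0 / a 1) with hr
  have hfa : pv a = C (a 1) * (X - C r) := by
    rw [pv_three, h2, mul_sub, ← C_mul, hr, mul_neg, mul_div_cancel₀ _ h1]; simp; ring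
  have hiff : ∀ g : Fin (m + 3) → F, resultant (pv a) (pv g) 2 (m + 2) ≠ 0 ↔
      g (Fin.last (m + 2)) ≠ 0 ∧ (pv g).eval r ≠ 0 := by
    intro g
    have hd : (C (a 1) * (X - C r)).natDegree ≤ 1 :=
      (natDegree_C_mul_le _ _).trans (natDegree_X_sub_C_le r)
    have hgn : (pv g).coeff (m + 2) = g (Fin.last (m + 2)) := by
      rw [coeff_pv, dif_pos (Nat.lt_succ_self _)]; rfl
    rw [hfa, resultant_succ_left_deg _ _ _ _ hd, resultant_C_mul_left,
      resultant_X_sub_C_left _ _ _ (natDegree_pv g), hgn]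
    simp [h1]
  rw [cnt_congr hiff, ← cnt_equiv ((Equiv.prodComm _ _).trans (Fin.consEquiv (fun _ : Fin (m + 3) => F))),
    cnt_prod]
  have hl : ∀ (t : Fin (m + 2) → F) (x : F),
      (Fin.cons (α := fun _ => F) x t : Fin (m + 3) → F) (Fin.last (m + 2)) = t (Fin.last (m + 1)) := fun t x => by
    rw [← Fin.succ_last, Fin.cons_succ]
  have hev : ∀ (t : Fin (m + 2) → F) (x : F),
      (pv (Fin.cons (α := fun _ => F) x t : Fin (m + 3) → F)).eval r = x + r * (pv t).eval r := fun t x => by
    simp only [pv, Fin.sum_univ_succ (n := m + 2), Fin.cons_zero, Fin.cons_succ, eval_add, eval_finsetSum,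
      eval_mul, eval_C, eval_pow, eval_X, Fin.val_zero, Fin.val_succ, pow_zero, mul_one, Finset.mul_sum]
    congr 1
    exact Finset.sum_congr rfl fun i _ => by ring
  change ∑ t : Fin (m + 2) → F, cnt (fun x : F =>
    (Fin.cons (α := fun _ => F) x t : Fin (m + 3) → F) (Fin.last (m + 2)) ≠ 0 ∧
      (pv (Fin.cons (α := fun _ => F) x t : Fin (m + 3) → F)).eval r ≠ 0) = _
  simp only [hl, hev]
  have h : ∀ t : Fin (m + 2) → F,
      cnt (fun x : F => t (Fin.last (m + 1)) ≠ 0 ∧ x + r * (pv t).eval r ≠ 0) =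
        (if t (Fin.last (m + 1)) ≠ 0 then 1 else 0) * (Fintype.card F - 1) := by
    intro t
    split_ifs with ht
    · rw [cnt_congr (Q := fun x => x ≠ -(r * (pv t).eval r)) (fun x => by simp [ht, eq_neg_iff_add_eq_zero]),
        cnt_ne, one_mul]
    · rw [cnt_congr (Q := fun _ => False) (fun x => iff_of_false (fun h => ht h.1) id), cnt_false,
        zero_mul]
  simp only [h, ← Finset.sum_mul]
  rw [mul_comm]
  congr 1
  rw [← cnt_last_ne, Finset.sum_boole, cnt, Nat.card_eq_fintype_card, Fintype.card_subtype]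
  simp

/-- case `a₂ = a₁ = 0` -/
theorem cnt_const (m : ℕ) (a : Fin 3 → F) (h2 : a 2 = 0) (h1 : a 1 = 0) :
    cnt (fun g : Fin (m + 3) → F => resultant (pv a) (pv g) 2 (m + 2) ≠ 0) =
      if a 0 = 0 then 0 else (Fintype.card F - 1) * Fintype.card F ^ (m + 2) := by
  classical
  have hiff : ∀ g : Fin (m + 3) → F, resultant (pv a) (pv g) 2 (m + 2) ≠ 0 ↔
      a 0 ≠ 0 ∧ g (Fin.last (m + 2)) ≠ 0 := fun g => by
    have hgn : (pv g).coeff (m + 2) = g (Fin.last (m + 2)) := by
      rw [coeff_pv, dif_pos (Nat.lt_succ_self _)]; rfl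
    rw [show pv a = C (a 0) by rw [pv_three a, h2, h1]; simp]
    simp [resultant_C_left, hgn, and_comm]
  rw [cnt_congr hiff]
  split_ifs with h0
  · rw [cnt_congr (Q := fun _ => False) (fun x => by simp [h0]), cnt_false]
  · rw [cnt_congr (Q := fun g : Fin (m + 3) → F => g (Fin.last (m + 2)) ≠ 0) (fun x => by simp [h0]),
      cnt_last_ne]

/-- the five-variable count -/
theorem sum_quadform :
    ∑ x : F, ∑ y : F, ∑ w : F, (if x = 0 then 0 else
        cnt (fun z : F × F => w * z.1 ^ 2 - y * z.1 * z.2 + x * z.2 ^ 2 ≠ 0)) =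
      (Fintype.card F - 1) ^ 2 * Fintype.card F ^ 3 := by
  classical
  set q := Fintype.card F with hq
  have hswap : ∀ x y : F, x ≠ 0 →
      ∑ w : F, cnt (fun z : F × F => w * z.1 ^ 2 - y * z.1 * z.2 + x * z.2 ^ 2 ≠ 0) =
        (q - 1) * q + (q - 1) * (q * (q - 1)) := by
    intro x y hx
    rw [← cnt_prod (fun p : F × F × F => p.1 * p.2.1 ^ 2 - y * p.2.1 * p.2.2 + x * p.2.2 ^ 2 ≠ 0),
      ← cnt_equiv (Equiv.prodComm (F × F) F), cnt_prod, Fintype.sum_prod_type]
    simp only [Equiv.prodComm_apply, Prod.swap_prod_mk]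
    have hb : ∀ b c : F, cnt (fun w : F => w * b ^ 2 - y * b * c + x * c ^ 2 ≠ 0) =
        if b = 0 then (if c = 0 then 0 else q) else q - 1 := by
      intro b c
      split_ifs with hb hc
      · rw [cnt_congr (Q := fun _ => False) (fun w => by simp [hb, hc]), cnt_false]
      · rw [cnt_congr (Q := fun _ => True) (fun w => by simp [hb, hc, hx]), cnt_true]
      · rw [cnt_congr (Q := fun w => w ≠ (y * b * c - x * c ^ 2) / b ^ 2) (fun w => by
          rw [ne_eq, ne_eq, eq_div_iff (pow_ne_zero 2 hb)]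
          exact not_congr ⟨fun h => by linear_combination h, fun h => by linear_combination h⟩),
          cnt_ne]
    simp only [hb]
    have hin : ∀ b : F, ∑ c : F, (if b = 0 then (if c = 0 then 0 else q) else q - 1) =
        if b = 0 then (q - 1) * q else q * (q - 1) := by
      intro b
      split_ifs with hb
      · rw [sum_ite_zero, zero_add]
      · simp [hq]
    simp only [hin, sum_ite_zero]
    rfl
  have hx : ∀ x : F, (∑ y : F, ∑ w : F, (if x = 0 then 0 else
      cnt (fun z : F × F => w * z.1 ^ 2 - y * z.1 * z.2 + x * z.2 ^ 2 ≠ 0))) =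
      if x = 0 then 0 else q * ((q - 1) * q + (q - 1) * (q * (q - 1))) := by
    intro x
    split_ifs with hx
    · simp
    · simp [hswap x _ hx, hq]
  simp only [hx, sum_ite_zero, zero_add, ← hq]
  obtain ⟨e, he⟩ := Nat.exists_eq_add_of_le' (show 1 ≤ q from Fintype.card_pos)
  simp only [he, Nat.add_sub_cancel]
  ring

theorem total (m : ℕ) :
    cnt (fun p : (Fin 3 → F) × (Fin (m + 3) → F) => resultant (pv p.1) (pv p.2) 2 (m + 2) ≠ 0) =
      Fintype.card F ^ (m + 3) * (Fintype.card F - 1) ^ 2 * (Fintype.card F + 1) := by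
  classical
  set q := Fintype.card F with hq
  let e : F × F × F ≃ (Fin 3 → F) :=
    { toFun := fun x => ![x.2.2, x.2.1, x.1]
      invFun := fun v => (v 2, v 1, v 0)
      left_inv := fun x => rfl
      right_inv := fun v => by ext i; fin_cases i <;> rfl }
  rw [cnt_prod, ← e.sum_comp, Fintype.sum_prod_type]
  simp only [Fintype.sum_prod_type]
  have hf : ∀ x y w : F, cnt (fun g : Fin (m + 3) → F => resultant (pv (e (x, y, w))) (pv g) 2 (m + 2) ≠ 0) =
      (if x = 0 then 0 else cnt (fun z : F × F => w * z.1 ^ 2 - y * z.1 * z.2 + x * z.2 ^ 2 ≠ 0)) * q ^ (m + 1) +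
      (if x = 0 then (if y = 0 then (if w = 0 then 0 else (q - 1) * q ^ (m + 2))
        else (q - 1) * ((q - 1) * q ^ (m + 1))) else 0) := by
    intro x y w
    have e2 : e (x, y, w) 2 = x := rfl
    have e1 : e (x, y, w) 1 = y := rfl
    have e0 : e (x, y, w) 0 = w := rfl
    by_cases hx : x = 0
    · rw [if_pos hx, if_pos hx, zero_mul, zero_add]
      by_cases hy : y = 0
      · rw [if_pos hy, cnt_const m _ (e2.trans hx) (e1.trans hy), e0]
      · rw [if_neg hy, cnt_linear m _ (e2.trans hx) (e1 ▸ hy)]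
    · rw [if_neg hx, if_neg hx, add_zero, cnt_quad m _ (e2 ▸ hx), e0, e1, e2]
  simp only [hf, Finset.sum_add_distrib, ← Finset.sum_mul]
  rw [sum_quadform]
  have hrest : ∑ x : F, ∑ y : F, ∑ w : F, (if x = 0 then (if y = 0 then (if w = 0 then 0
      else (q - 1) * q ^ (m + 2)) else (q - 1) * ((q - 1) * q ^ (m + 1))) else 0) =
      (q - 1) * ((q - 1) * q ^ (m + 2)) + (q - 1) * (q * ((q - 1) * ((q - 1) * q ^ (m + 1)))) := by
    have h1 : ∀ x : F, (∑ y : F, ∑ w : F, (if x = 0 then (if y = 0 then (if w = 0 then 0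
      else (q - 1) * q ^ (m + 2)) else (q - 1) * ((q - 1) * q ^ (m + 1))) else 0)) =
        if x = 0 then (∑ y : F, ∑ w : F, (if y = 0 then (if w = 0 then 0
          else (q - 1) * q ^ (m + 2)) else (q - 1) * ((q - 1) * q ^ (m + 1)))) else 0 := by
      intro x; split_ifs <;> simp
    have h2 : ∀ y : F, (∑ w : F, (if y = 0 then (if w = 0 then 0
          else (q - 1) * q ^ (m + 2)) else (q - 1) * ((q - 1) * q ^ (m + 1)))) =
        if y = 0 then (q - 1) * ((q - 1) * q ^ (m + 2)) else q * ((q - 1) * ((q - 1) * q ^ (m + 1))) := by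
      intro y
      split_ifs with hy
      · rw [sum_ite_zero, zero_add]
      · simp [hq]
    simp only [h1, h2, sum_ite_zero, mul_zero, add_zero, ← hq]
  rw [hrest, ← hq]
  obtain ⟨d, hd⟩ := Nat.exists_eq_add_of_le' (show 1 ≤ q from Fintype.card_pos)
  simp only [hd, Nat.add_sub_cancel]
  ring

theorem total_sub (n : ℕ) (h2 : 2 ≤ n) :
    cnt (fun p : (Fin 3 → F) × (Fin (n + 1) → F) => resultant (pv p.1) (pv p.2) 2 n ≠ 0) =
      Fintype.card F ^ (n + 1) * (Fintype.card F - 1) ^ 2 * (Fintype.card F + 1) := by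
  obtain ⟨m, rfl⟩ := Nat.exists_eq_add_of_le' h2
  exact total m

end Groth.Agent.ResHypCount
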